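import Groth.Agent.BalLib.Descent
import Mathlib.CategoryTheory.Monoidal.Cartesian.Grp

/-!
Point calculus for extensions of group schemes and descent along the quotient map.
-/

universe u

open CategoryTheory MonoidalCategory CartesianMonoidalCategory MonObj GrpObj AlgebraicGeometry
open Groth.Agent.BalLib

namespace Groth.Agent.GrpExtRigid

variable {S : Scheme.{u}}

theorem hasLocSec_id (Y : Over S) : HasLocSec (𝟙 Y) :=
  ⟨⊤, Scheme.fppfTopology.top_mem _, fun _ a _ => ⟨a, Category.comp_id a⟩⟩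

theorem hasLocSec_tensor {U Y U' Y' : Over S} {j : U ⟶ Y} {j' : U' ⟶ Y'} (hj : HasLocSec j)
    (hj' : HasLocSec j') : HasLocSec (lift (fst U U' ≫ j) (snd U U' ≫ j')) := by
  obtain ⟨R, hR, hsec⟩ := hj
  obtain ⟨R', hR', hsec'⟩ := hj'
  refine ⟨R.pullback (fst Y Y').left ⊓ R'.pullback (snd Y Y').left,
    Scheme.fppfTopology.intersection_covering (Scheme.fppfTopology.pullback_stable _ hR)
      (Scheme.fppfTopology.pullback_stable _ hR'), fun T a ha => ?_⟩
  obtain ⟨s, hs⟩ := hsec _ ha.1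
  obtain ⟨s', hs'⟩ := hsec' _ ha.2
  let T' : Over S := Over.mk (a ≫ (Y ⊗ Y').hom)
  let a' : T' ⟶ Y ⊗ Y' := Over.homMk a rfl
  let t : T' ⟶ U := Over.homMk s (by
    show s ≫ U.hom = a ≫ (Y ⊗ Y').hom
    rw [← Over.w j, ← Category.assoc, hs, Category.assoc, Over.w (fst Y Y')])
  let t' : T' ⟶ U' := Over.homMk s' (by
    show s' ≫ U'.hom = a ≫ (Y ⊗ Y').hom
    rw [← Over.w j', ← Category.assoc, hs', Category.assoc, Over.w (snd Y Y')])
  have h1 : t ≫ j = a' ≫ fst Y Y' := Over.OverMorphism.ext hs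
  have h2 : t' ≫ j' = a' ≫ snd Y Y' := Over.OverMorphism.ext hs'
  refine ⟨(lift t t').left, ?_⟩
  have : lift t t' ≫ lift (fst U U' ≫ j) (snd U U' ≫ j') = a' := by
    refine CartesianMonoidalCategory.hom_ext _ _ ?_ ?_
    · simp [h1]
    · simp [h2]
  exact congrArg CommaMorphism.left this

variable {P G E : Over S} [GrpObj P] [GrpObj G] [GrpObj E] {u : G ⟶ E} {v : E ⟶ P}

theorem comp_u_eq_of_eq (hex : NonAbH1.IsExactSeq Scheme.fppfPrecoverage u v) {T : Over S}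
    {a b : T ⟶ G} (h : a ≫ u = b ≫ u) : a = b := by
  obtain ⟨hu, hv, huv, hpb, -⟩ := hex
  have h3 : (E ◁ u) ≫ μ[E] = fst E G * (snd E G ≫ u) := by
    rw [Hom.mul_def]
    congr 1
  have := hpb.hom_ext (k := lift (1 : T ⟶ E) a) (l := lift 1 b) (by simp)
    (by simp [h3, MonObj.comp_mul, h])
  simpa using congrArg (· ≫ snd _ _) this

theorem exists_fibre (hex : NonAbH1.IsExactSeq Scheme.fppfPrecoverage u v) {T : Over S}
    {x y : T ⟶ E} (h : x ≫ v = y ≫ v) : ∃ g : T ⟶ G, y = x * (g ≫ u) := by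
  obtain ⟨hu, hv, huv, hpb, -⟩ := hex
  have h3 : (E ◁ u) ≫ μ[E] = fst E G * (snd E G ≫ u) := by
    rw [Hom.mul_def]
    congr 1
  refine ⟨hpb.lift x y h ≫ snd E G, ?_⟩
  have h2 : hpb.lift x y h ≫ (E ◁ u) ≫ μ[E] = y := hpb.lift_snd _ _ _
  have h1 : hpb.lift x y h ≫ fst E G = x := hpb.lift_fst _ _ _
  generalize hpb.lift x y h = l at h1 h2 ⊢
  rw [h3, MonObj.comp_mul, h1] at h2
  simpa [Category.assoc] using h2.symm

theorem exists_ker (hex : NonAbH1.IsExactSeq Scheme.fppfPrecoverage u v) {T : Over S}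
    {d : T ⟶ E} (h : d ≫ v = 1) : ∃ g : T ⟶ G, g ≫ u = d := by
  haveI := hex.2.1
  obtain ⟨g, hg⟩ := exists_fibre hex (x := (1 : T ⟶ E)) (y := d) (by rw [MonObj.one_comp, h])
  exact ⟨g, by rw [hg, _root_.one_mul]⟩

theorem hasLocSec (hex : NonAbH1.IsExactSeq Scheme.fppfPrecoverage u v) : HasLocSec v :=
  hasLocSec_of_isLocallyTrivialFor v hex.2.2.2.2

theorem comp_u_v (hex : NonAbH1.IsExactSeq Scheme.fppfPrecoverage u v) {T : Over S} (g : T ⟶ G) :
    (g ≫ u) ≫ v = 1 := by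
  rw [Category.assoc, hex.2.2.1, MonObj.comp_one]

variable [IsCommMonObj G]

theorem commute_u (hex : NonAbH1.IsExactSeq Scheme.fppfPrecoverage u v) {T : Over S} (g h : T ⟶ G) :
    Commute (g ≫ u) (h ≫ u) := by
  haveI := hex.1
  show _ * _ = _ * _
  rw [← MonObj.mul_comp, ← MonObj.mul_comp, _root_.mul_comm]

end Groth.Agent.GrpExtRigid
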