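import Mathlib.LinearAlgebra.Finsupp.LinearCombination
import Mathlib.LinearAlgebra.Quotient.Basic
import Mathlib.Tactic.Abel
import Mathlib.Tactic.Ring

/-!
An abelian extension from a symmetric 2-cocycle, and exactness of the symmetric cocycle complex.
-/

universe u v

namespace Groth.Agent.GrpExtRigid

/-- The carrier of the extension attached to a cocycle. -/
@[ext]
structure CocExt (A : Type v) (P : Type u) : Type (max u v) where
  /-- kernel coordinate -/
  a : A
  /-- quotient coordinate -/
  p : P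

theorem exists_extension {A : Type v} {P : Type u} [AddCommGroup A] [AddCommGroup P] (c : P → P → A)
    (hsymm : ∀ p q, c p q = c q p)
    (hcoc : ∀ p q r, c (p + q) r - c p (q + r) + c p q - c q r = 0) :
    ∃ (E : Type (max u v)) (_ : AddCommGroup E) (ι : A →+ E) (σ : P → E),
      Function.Injective ι ∧ ∀ p q, σ (p + q) = σ p + σ q - ι (c p q) := by
  have h0 : ∀ p, c 0 p = c 0 0 := by
    intro p
    have := hcoc 0 0 p
    simp only [zero_add] at this
    rw [sub_self, zero_add, sub_eq_zero] at this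
    exact this.symm
  letI : Zero (CocExt A P) := ⟨⟨-c 0 0, 0⟩⟩
  letI : Add (CocExt A P) := ⟨fun a b => ⟨a.a + b.a + c a.p b.p, a.p + b.p⟩⟩
  letI : Neg (CocExt A P) := ⟨fun a => ⟨-a.a - c a.p (-a.p) - c 0 0, -a.p⟩⟩
  letI G : AddCommGroup (CocExt A P) :=
    { nsmul := nsmulRec
      zsmul := zsmulRec
      add_assoc := fun a b d => CocExt.ext (by
        show (a.a + b.a + c a.p b.p) + d.a + c (a.p + b.p) d.p =
          a.a + (b.a + d.a + c b.p d.p) + c a.p (b.p + d.p)
        rw [← sub_eq_zero]
        refine Eq.trans ?_ (hcoc a.p b.p d.p)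
        abel) (add_assoc _ _ _)
      zero_add := fun a => CocExt.ext (by
        show -c 0 0 + a.a + c 0 a.p = a.a
        rw [h0 a.p]; abel) (zero_add _)
      add_zero := fun a => CocExt.ext (by
        show a.a + -c 0 0 + c a.p 0 = a.a
        rw [hsymm a.p, h0 a.p]; abel) (add_zero _)
      neg_add_cancel := fun a => CocExt.ext (by
        show -a.a - c a.p (-a.p) - c 0 0 + a.a + c (-a.p) a.p = -c 0 0
        rw [hsymm (-a.p)]; abel) (neg_add_cancel _)
      add_comm := fun a b => CocExt.ext (by
        show a.a + b.a + c a.p b.p = b.a + a.a + c b.p a.p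
        rw [hsymm b.p]; abel) (add_comm _ _) }
  refine ⟨CocExt A P, G, AddMonoidHom.mk' (fun a => ⟨a - c 0 0, 0⟩) fun a b => CocExt.ext ?_ (zero_add (0 : P)).symm,
    fun p => ⟨0, p⟩, fun a b h => by simpa using congrArg CocExt.a h, fun p q => ?_⟩
  · show a + b - c 0 0 = a - c 0 0 + (b - c 0 0) + c 0 0
    abel
  · refine eq_sub_iff_add_eq.mpr (CocExt.ext ?_ (add_zero _))
    show (0 : A) + (c p q - c 0 0) + c (p + q) 0 = 0 + 0 + c p q
    rw [hsymm (p + q), h0 (p + q)]; abel

variable (P : Type u) [AddCommGroup P]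

theorem mem_range_d₀ (x : P →₀ ℤ) :
    x - Finsupp.single (Finsupp.linearCombination ℤ (fun p : P => p) x) 1 ∈
      LinearMap.range (Finsupp.linearCombination ℤ
        (fun pq : P × P => Finsupp.single (pq.1 + pq.2) (1 : ℤ) - Finsupp.single pq.1 1 - Finsupp.single pq.2 1)) := by
  let R := LinearMap.range (Finsupp.linearCombination ℤ
        (fun pq : P × P => Finsupp.single (pq.1 + pq.2) (1 : ℤ) - Finsupp.single pq.1 1 - Finsupp.single pq.2 1))
  have hgen : ∀ p q : P, R.mkQ (Finsupp.single (p + q) 1) =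
      R.mkQ (Finsupp.single p 1) + R.mkQ (Finsupp.single q 1) := by
    intro p q
    rw [← sub_eq_zero, ← map_add, ← map_sub, Submodule.mkQ_apply, Submodule.Quotient.mk_eq_zero]
    refine ⟨Finsupp.single (p, q) 1, ?_⟩
    simp only [Finsupp.linearCombination_single, one_smul]
    abel
  let g : P →+ (P →₀ ℤ) ⧸ R := AddMonoidHom.mk' (fun p => R.mkQ (Finsupp.single p 1)) hgen
  have hext : g.toIntLinearMap ∘ₗ Finsupp.linearCombination ℤ (fun p : P => p) = R.mkQ := by
    ext p
    simp [g]
  have := LinearMap.congr_fun hext x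
  rw [LinearMap.comp_apply] at this
  rw [← Submodule.Quotient.mk_eq_zero, Submodule.Quotient.mk_sub, sub_eq_zero]
  exact this.symm

end Groth.Agent.GrpExtRigid
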